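import Cfsg.Agent.Lib.Golay.M24Group
import Cfsg.Prelude.Def_Spor_Mathieu

/-!
# Linear certificates for extensions of M23 by an elementary abelian group of order 2^11

An edge of a certificate is a product `τ src * x g = τ dst * emb λ` of lifts; its vector `λ` is a linear
form in the relator vectors.  All checks are on natural numbers; bit `i` of a form is its coefficient
at the `i`-th unknown.
-/

set_option autoImplicit false

namespace CfsgLib.Golay.Splitting

open Cfsg CfsgLib.Golay

/-- An edge with its forms and, unless it is a tree edge, the relator deriving it. -/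
structure Edge where
  src : ℕ
  gen : ℕ
  dst : ℕ
  forms : List ℕ
  der : Option (ℕ × List ℕ × List ℕ)

/-- A closed path along a relator and one component of the equation it gives. -/
structure Eqn where
  rel : ℕ
  start : ℕ
  path : List ℕ
  comp : ℕ
  form : ℕ

/-- An edge of the Sylow subgroup with its reduction. -/
structure Target where
  edge : ℕ
  eps : ℕ
  combs : List ℕ

/-- A certificate. -/
structure Cert where
  permL : List (List ℕ)
  permI : List (List ℕ)
  mats : List (List ℕ)
  rels : List (List ℕ)
  nodes : List (List (List ℕ))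
  nperms : List (List (List ℕ))
  edges : List (List Edge)
  numEdges : ℕ
  eqns : List Eqn
  pivots : List ℕ
  gauge : List ℕ
  targets : List Target
  base : ℕ
  free : ℕ

/-- Number of unknowns of the relator vectors. -/
def numVar : ℕ := 231

/-- Vectors. -/
abbrev Vec : Type := Fin 11 → ZMod 2

/-! ### Forms -/

/-- Value of a form. -/
def val (u : ℕ → ZMod 2) (f : ℕ) : ZMod 2 := ∑ i ∈ Finset.range numVar, if f.testBit i then u i else 0

theorem val_zero (u : ℕ → ZMod 2) : val u 0 = 0 := by simp [val]

theorem val_xor (u : ℕ → ZMod 2) (a b : ℕ) : val u (a ^^^ b) = val u a + val u b := by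
  rw [val, val, val, ← Finset.sum_add_distrib]
  refine Finset.sum_congr rfl fun i _ => ?_
  rw [Nat.testBit_xor]
  cases a.testBit i <;> cases b.testBit i <;> simp [CharTwo.add_self_eq_zero]

theorem val_two_pow (u : ℕ → ZMod 2) {i : ℕ} (hi : i < numVar) : val u (2 ^ i) = u i := by
  rw [val, Finset.sum_eq_single i]
  · simp
  · intro j _ hj
    simp [Nat.testBit_two_pow, Ne.symm hj]
  · simp [hi]

/-- Value of a list of component forms. -/
def valV (u : ℕ → ZMod 2) (f : List ℕ) : Vec := fun r => val u (f.getD r.val 0)

/-- Componentwise sum of forms. -/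
def xorF (a b : List ℕ) : List ℕ := (List.finRange 11).map fun r => a.getD r.val 0 ^^^ b.getD r.val 0

/-- Transport of forms by a matrix given by columns. -/
def trF (A f : List ℕ) : List ℕ :=
  (List.finRange 11).map fun r =>
    (List.finRange 11).foldr (fun c acc => (bif (A.getD c.val 0).testBit r.val then f.getD c.val 0 else 0) ^^^ acc) 0

/-- Transport of vectors. -/
def lin (A : List ℕ) (v : Vec) : Vec := fun r =>
  ((List.finRange 11).map fun c => bif (A.getD c.val 0).testBit r.val then v c else 0).sum

theorem getD_map_finRange {g : Fin 11 → ℕ} (r : Fin 11) : ((List.finRange 11).map g).getD r.val 0 = g r := by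
  rw [List.getD_eq_getElem _ _ (by simp)]
  simp

theorem valV_xorF (u : ℕ → ZMod 2) (a b : List ℕ) : valV u (xorF a b) = valV u a + valV u b := by
  funext r
  simp [valV, xorF, getD_map_finRange, val_xor]

theorem val_foldr (u : ℕ → ZMod 2) {ι : Type*} (g : ι → ℕ) :
    ∀ L : List ι, val u (L.foldr (fun c acc => g c ^^^ acc) 0) = (L.map fun c => val u (g c)).sum
  | [] => val_zero u
  | c :: L => by simp [val_xor, val_foldr u g L]

theorem valV_trF (u : ℕ → ZMod 2) (A f : List ℕ) : valV u (trF A f) = lin A (valV u f) := by
  funext r
  simp only [valV, trF, getD_map_finRange, lin]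
  rw [val_foldr u (fun c : Fin 11 => bif (A.getD c.val 0).testBit r.val then f.getD c.val 0 else 0)]
  refine congrArg List.sum (List.map_congr_left fun c _ => ?_)
  cases (A.getD c.val 0).testBit r.val <;> simp [val_zero, valV]

theorem valV_nil (u : ℕ → ZMod 2) : valV u [] = 0 := by
  funext r; simp [valV, val_zero]

theorem lin_add (A : List ℕ) (v w : Vec) : lin A (v + w) = lin A v + lin A w := by
  funext r
  simp only [lin, Pi.add_apply]
  rw [← List.sum_map_add]
  refine congrArg List.sum (List.map_congr_left fun c _ => ?_)
  cases (A.getD c.val 0).testBit r.val <;> simp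

/-- Unit forms of relator `r`. -/
def unitF (r : ℕ) : List ℕ := (List.finRange 11).map fun c => 2 ^ (11 * r + c.val)

theorem valV_unitF (u : ℕ → ZMod 2) {r : ℕ} (hr : r < 21) :
    valV u (unitF r) = fun c : Fin 11 => u (11 * r + c.val) := by
  funext c
  rw [valV, unitF, getD_map_finRange, val_two_pow]
  unfold numVar
  omega

/-! ### Checks -/

namespace Cert

variable (C : Cert)

/-- Product of generators along a word. -/
def wordPerm (w : List ℕ) : List ℕ :=
  w.foldl (fun acc g => CfsgLib.Golay.comp acc (C.permL.getD g [])) (List.range 24)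

/-- An edge. -/
def edge (j : ℕ) : Edge := (C.edges.getD (j / 32) []).getD (j % 32) ⟨0, 0, 0, [], none⟩

/-- A node word. -/
def node (k : ℕ) : List ℕ := (C.nodes.getD (k / 16) []).getD (k % 16) []

/-- The image list of a node. -/
def nperm (k : ℕ) : List ℕ := (C.nperms.getD (k / 16) []).getD (k % 16) []

/-- The matrix of a generator. -/
def mat (g : ℕ) : List ℕ := C.mats.getD g []

/-- Consecutive edges from `s` to `t` reading `w`. -/
def chainB : ℕ → List ℕ → List ℕ → ℕ → Bool
  | s, [], [], t => s == t
  | s, j :: p, g :: w, t => (C.edge j).src == s && (C.edge j).gen == g && chainB (C.edge j).dst p w t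
  | _, _, _, _ => false

/-- Forms along a path. -/
def walkF (p : List ℕ) (f : List ℕ) : List ℕ :=
  p.foldl (fun f j => xorF (trF (C.mat (C.edge j).gen) f) (C.edge j).forms) f

/-- Check of one edge. -/
def edgeB (j : ℕ) (e : Edge) : Bool :=
  Nat.blt e.gen C.permL.length && Nat.blt e.src (16 * C.nodes.length) && Nat.blt e.dst (16 * C.nodes.length) &&
  !(C.nperm e.src == []) && !(C.nperm e.dst == []) &&
  (CfsgLib.Golay.comp (C.nperm e.src) (C.permL.getD e.gen []) == C.nperm e.dst) &&
  (match e.der with
   | none => e.forms == [] && C.node e.src ++ [e.gen] == C.node e.dst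
   | some (r, pre, post) => Nat.blt r C.rels.length && pre.all (fun i => Nat.blt i j) &&
      post.all (fun i => Nat.blt i j) && chainB C ((C.edge ((pre ++ [j]).headD 0)).src) (pre ++ j :: post) (C.rels.getD r [])
        ((C.edge ((pre ++ [j]).headD 0)).src) && C.walkF (pre ++ j :: post) [] == unitF r)

/-- Check of one equation. -/
def eqnB (q : Eqn) : Bool :=
  Nat.blt q.rel C.rels.length && Nat.blt q.comp 11 && q.path.all (fun j => Nat.blt j C.numEdges) &&
  chainB C q.start q.path (C.rels.getD q.rel []) q.start &&
  (C.walkF q.path []).getD q.comp 0 ^^^ 2 ^ (11 * q.rel + q.comp) == q.form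

/-- Component forms of a relator word in the change of lifts. -/
def walkM (w : List ℕ) (f : List ℕ) : List ℕ :=
  w.foldl (fun f g => xorF (trF (C.mat g) f) (unitF g)) f

/-- Check of one pivot. -/
def pivotB (p : ℕ) : Bool :=
  Nat.blt p numVar &&
    2 ^ p == spanWord C.gauge ((C.walkM (C.rels.getD (p / 11) []) []).getD (p % 11) 0)

/-- Check of one target. -/
def targetB (t : Target) : Bool :=
  (List.finRange 11).all fun c =>
    ((C.edge t.edge).forms.getD c.val 0 ^^^ spanWord (C.eqns.map Eqn.form) (t.combs.getD c.val 0)) &&& C.free
      == bif t.eps.testBit c.val then C.base else 0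

/-- The coordinates outside `free` are pivots. -/
def freeB : Bool := (List.range numVar).all fun i => C.free.testBit i || C.pivots.contains i

/-- The 128 nodes of the Sylow subgroup are closed and distinct from the identity. -/
def sylowB : Bool :=
  C.node 0 == [] &&
  decide ((List.range 128).map fun k => C.nperm k).Nodup &&
  ((List.range 128).all fun k => (List.range 3).all fun g =>
    let e := C.edge ((C.targets.getD (3 * k + g) ⟨0, 0, []⟩).edge)
    e.src == k && e.gen == g && Nat.blt e.dst 128 &&
      Nat.blt (C.targets.getD (3 * k + g) ⟨0, 0, []⟩).edge C.numEdges) &&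
  ((List.range 128).all fun k => (C.node k).all fun g => Nat.blt g 3) &&
  ((List.range 128).all fun k => !(C.nperm k == [])) &&
  Nat.ble 8 C.nodes.length &&
  C.targets.length == 384

/-- Check of the edges `128 i, ..., 128 i + 127`. -/
def edgesB (i : ℕ) : Bool :=
  (List.range 128).all fun t => Nat.ble C.numEdges (128 * i + t) || C.edgeB (128 * i + t) (C.edge (128 * i + t))

/-- Check of the node image lists `128 i, ..., 128 i + 127`. -/
def nodesB (i : ℕ) : Bool :=
  (List.range 128).all fun t =>
    Nat.ble (16 * C.nodes.length) (128 * i + t) || C.wordPerm (C.node (128 * i + t)) == C.nperm (128 * i + t) ||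
      (C.node (128 * i + t) == [] && C.nperm (128 * i + t) == [])

/-- The remaining checks. -/
def restB : Bool :=
  Nat.ble C.numEdges 768 && Nat.ble C.nodes.length 24 && C.pivots.all C.pivotB &&
    C.targets.all C.targetB && Nat.ble C.gauge.length numVar

/-- All checks. -/
def checkB : Bool :=
  (List.range 6).all C.edgesB && (List.range 3).all C.nodesB && C.eqns.all C.eqnB && C.restB

/-- All structural checks. -/
def structB : Bool :=
  C.permL.length == 7 && C.permI.length == 7 && C.rels.length == 21 &&
  (C.rels.all fun w => w.all fun g => Nat.blt g C.permL.length) &&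
  (C.rels.all fun w => C.wordPerm w == List.range 24) &&
  (C.nodes.all fun l => l.all fun w => w.all fun g => Nat.blt g C.permL.length) &&
  ((List.range 7).all fun g =>
    let l := C.permL.getD g []
    let l' := C.permI.getD g []
    l.length == 24 && l'.length == 24 && l.all (fun i => Nat.blt i 24) && l'.all (fun i => Nat.blt i 24) &&
      comp l l' == List.range 24 && comp l' l == List.range 24 && isPres l && l.getD 23 0 == 23) &&
  C.freeB && C.sylowB

end Cert

end CfsgLib.Golay.Splitting
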