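import Cfsg.Agent.Lib.Golay.Splitting.Theory
import Cfsg.Agent.Lib.Golay.ParkerExtension

/-!
# Coordinates on the code and cocode modules of M23
-/

set_option autoImplicit false

namespace CfsgLib.Golay.Splitting

open Cfsg CfsgLib.Golay CfsgLib.Golay.Parker

/-- Coordinates of the basis of the punctured code. -/
def basisCrd : List ℕ := [2, 5, 8, 17, 33, 65, 128, 256, 512, 1025, 2049]

/-- The basis words. -/
def basisWord (c : Fin 11) : GolayPt → ZMod 2 := dec (codeWord (basisCrd.getD c.val 0))

/-- The eleven positions read as coordinates. -/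
def coordPt (c : Fin 11) : GolayPt := pt ⟨c.val + 1, by omega⟩

theorem basisWord_mem (c : Fin 11) : basisWord c ∈ punctured := by
  refine mem_punctured.mpr ⟨dec_codeWord_mem _, ?_⟩
  revert c; decide +kernel

theorem basisWord_coord : ∀ c d : Fin 11, basisWord c (coordPt d) = if c = d then 1 else 0 := by
  decide +kernel

/-- The code word with given coordinates. -/
def wordOf : Vec →+ (GolayPt → ZMod 2) :=
  AddMonoidHom.mk' (fun v => ∑ c, v c • basisWord c) fun v w => by
    simp [add_smul, Finset.sum_add_distrib]

/-- Coordinates of a word. -/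
def coords : (GolayPt → ZMod 2) →+ Vec :=
  AddMonoidHom.mk' (fun w c => w (coordPt c)) fun _ _ => rfl

theorem coords_wordOf (v : Vec) : coords (wordOf v) = v := by
  funext d
  simp only [coords, wordOf, AddMonoidHom.mk'_apply, Finset.sum_apply, Pi.smul_apply, basisWord_coord,
    smul_eq_mul, mul_ite, mul_one, mul_zero, Finset.sum_ite_eq', Finset.mem_univ, if_true]

theorem wordOf_mem (v : Vec) : wordOf v ∈ punctured := by
  show (∑ c, v c • basisWord c) ∈ punctured
  exact Submodule.sum_mem _ fun c _ => Submodule.smul_mem _ _ (basisWord_mem c)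

theorem low_zero : ∀ A < 4096, (codeWord A).testBit 23 = false →
    ((List.range 11).all fun c => !(codeWord A).testBit (c + 1)) = true → A = 0 := by
  have h : (List.range 4096).all (fun A => (codeWord A).testBit 23 ||
      !((List.range 11).all fun c => !(codeWord A).testBit (c + 1)) || A == 0) = true := by decide +kernel
  intro A hA h23 hall
  have h1 := List.all_eq_true.mp h A (List.mem_range.mpr hA)
  rw [h23, hall] at h1
  simpa using h1

theorem eq_zero_of_coords {w : GolayPt → ZMod 2} (hw : w ∈ punctured) (h : coords w = 0) : w = 0 := by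
  obtain ⟨hc, h0⟩ := mem_punctured.mp hw
  have henc := enc_eq_codeWord hc
  have hA : crd w = 0 := by
    refine low_zero _ (crd_lt w) ?_ ?_
    · rw [← henc]
      have := testBit_enc w none
      rw [h0] at this
      simpa [idx] using this
    · rw [List.all_eq_true]
      intro c hcm
      have hlt : c + 1 < 24 := by have := List.mem_range.mp hcm; omega
      have h2 := testBit_enc w (pt ⟨c + 1, hlt⟩)
      rw [show w (pt ⟨c + 1, hlt⟩) = 0 from congrFun h ⟨c, List.mem_range.mp hcm⟩, idx_pt] at h2
      rw [← henc]
      simpa using h2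
  rw [← dec_enc w, henc, hA, codeWord, spanWord_zero, dec_zero]

theorem wordOf_coords {w : GolayPt → ZMod 2} (hw : w ∈ punctured) : wordOf (coords w) = w := by
  have h : wordOf (coords w) - w = 0 := eq_zero_of_coords (Submodule.sub_mem _ (wordOf_mem _) hw)
    (by rw [map_sub, coords_wordOf, sub_self])
  exact sub_eq_zero.mp h

theorem act_punctured {π : ↥Spor.M23} {w : GolayPt → ZMod 2} (hw : w ∈ punctured) :
    Parker.act π w ∈ punctured :=
  (vact π ⟨w, hw⟩).2

/-- Action on code coordinates. -/
def actCode (π : ↥Spor.M23) (v : Vec) : Vec := coords (Parker.act π (wordOf v))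

/-- Dual word with given values on the basis words. -/
def dualWord : Vec →+ (GolayPt → ZMod 2) :=
  AddMonoidHom.mk' (fun v => ∑ c, v c • Pi.single (coordPt c) 1) fun v w => by
    simp [add_smul, Finset.sum_add_distrib]

/-- Values on the basis words. -/
def dualCoords : (GolayPt → ZMod 2) →+ Vec :=
  AddMonoidHom.mk' (fun w c => dot w (basisWord c)) fun u v => funext fun c => dot_add_left u v _

theorem dualCoords_dualWord (v : Vec) : dualCoords (dualWord v) = v := by
  funext d
  have h : ∀ c, dot (Pi.single (coordPt c) 1) (basisWord d) = basisWord d (coordPt c) := fun c => by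
    simp [dot, Pi.single_apply]
  simp only [dualCoords, dualWord, AddMonoidHom.mk'_apply]
  simp only [dot, Finset.sum_apply, Pi.smul_apply, smul_eq_mul, Finset.sum_mul]
  rw [Finset.sum_comm]
  simp only [mul_assoc, ← Finset.mul_sum]
  simp only [dot] at h
  simp only [h, basisWord_coord, mul_ite, mul_one, mul_zero]
  simp

/-- Action on cocode coordinates. -/
def actCocode (π : ↥Spor.M23) (v : Vec) : Vec := dualCoords (Parker.act π (dualWord v))

theorem dual_eq_zero_iff (w : GolayPt → ZMod 2) :
    dualCoords w = 0 ↔ (w ∈ golayCode ∨ w + Pi.single none 1 ∈ golayCode) := by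
  rw [← wordHom_eq_zero_iff]
  constructor
  · intro h
    refine congrArg Additive.ofMul (Subtype.ext (Ext.ext rfl (funext fun a => ?_)) : wordElt w = 1)
    show dot w a.1 = 0
    rw [← wordOf_coords a.2]
    simp only [wordOf, AddMonoidHom.mk'_apply, dot, Finset.sum_apply, Pi.smul_apply, smul_eq_mul, Finset.mul_sum]
    rw [Finset.sum_comm]
    refine Finset.sum_eq_zero fun c _ => ?_
    have hc := congrFun h c
    simp only [dualCoords, AddMonoidHom.mk'_apply, dot, Pi.zero_apply] at hc
    calc ∑ i, w i * (coords a.1 c * basisWord c i) = coords a.1 c * ∑ i, w i * basisWord c i := by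
          rw [Finset.mul_sum]; exact Finset.sum_congr rfl fun i _ => by ring
      _ = 0 := by rw [hc, mul_zero]
  · intro h
    funext c
    exact congrFun (congrArg (fun x : ↥Ext.proj.ker => (x : Ext).fn) (congrArg Additive.toMul h))
      ⟨basisWord c, basisWord_mem c⟩

/-- Equal additive maps from coordinates, checked on the unit vectors. -/
theorem vec_hom_ext {M : Type*} [AddCommGroup M] (f g : Vec →+ M)
    (h : ∀ c, f (Pi.single c 1) = g (Pi.single c 1)) : f = g := by
  ext c x
  rcases (show x = 0 ∨ x = 1 by revert x; decide) with rfl | rfl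
  · simp
  · exact h c

/-- Transport as an additive map. -/
def linHom (A : List ℕ) : Vec →+ Vec := AddMonoidHom.mk' (lin A) (lin_add A)

/-- The unit-vector check for the code action. -/
def codeMatB (C : Cert) : Bool :=
  (List.range 7).all fun g => decide (∀ c d : Fin 11,
    (pmap (C.permL.getD g []) (enc (wordOf (lin (C.mat g) (Pi.single c 1))))).testBit (d.val + 1) = decide (c = d))

/-- The unit-vector check for the cocode action. -/
def cocodeMatB (C : Cert) : Bool :=
  (List.range 7).all fun g => decide (∀ c d : Fin 11,
    (popc (Nat.land (pmap (C.permL.getD g []) (enc (dualWord (lin (C.mat g) (Pi.single c 1)))))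
      (codeWord (basisCrd.getD d.val 0))) % 2 == 1) = decide (c = d))

theorem zmod2_eq_ite {a : ZMod 2} {p : Prop} [Decidable p] (h : decide (a = 1) = decide p) :
    a = if p then 1 else 0 := by
  rcases (show ∀ b : ZMod 2, b = 0 ∨ b = 1 by decide) a with rfl | rfl <;> by_cases hp : p <;> simp_all

theorem compatible_code {C : Cert} (h : codeMatB C = true) : Compatible actCode C := by
  intro g hg π hπ v
  have h1 := of_decide_eq_true (List.all_eq_true.mp h g (List.mem_range.mpr hg))
  let f : Vec →+ Vec := AddMonoidHom.mk' (fun v => actCode π (lin (C.mat g) v)) fun a b => by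
    simp only [actCode, lin_add, map_add, act_add]
  suffices hf : f = AddMonoidHom.id _ from DFunLike.congr_fun hf v
  refine vec_hom_ext _ _ fun c => funext fun d => ?_
  show Parker.act π (wordOf (lin (C.mat g) (Pi.single c 1))) (coordPt d) = (Pi.single c 1 : Vec) d
  rw [Pi.single_apply]
  refine zmod2_eq_ite ?_
  rw [← testBit_enc, enc_act, hπ]
  show Nat.testBit _ (idx (pt ⟨d.val + 1, _⟩)).val = _
  rw [idx_pt]
  simpa [eq_comm] using h1 c d

theorem compatible_cocode {C : Cert} (h : cocodeMatB C = true) : Compatible actCocode C := by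
  intro g hg π hπ v
  have h1 := of_decide_eq_true (List.all_eq_true.mp h g (List.mem_range.mpr hg))
  let f : Vec →+ Vec := AddMonoidHom.mk' (fun v => actCocode π (lin (C.mat g) v)) fun a b => by
    simp only [actCocode, lin_add, map_add, act_add]
  suffices hf : f = AddMonoidHom.id _ from DFunLike.congr_fun hf v
  refine vec_hom_ext _ _ fun c => funext fun d => ?_
  show dot (Parker.act π (dualWord (lin (C.mat g) (Pi.single c 1)))) (basisWord d) = (Pi.single c 1 : Vec) d
  rw [Pi.single_apply]
  refine zmod2_eq_ite ?_
  rw [dot_eq_popc, enc_act, hπ, basisWord, enc_dec (codeWord_lt _)]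
  have h2 := h1 c d
  rw [show decide (d = c) = decide (c = d) by simp [eq_comm], ← h2]
  generalize popc _ = n
  show decide ((n : ZMod 2) = 1) = (n % 2 == 1)
  rw [Bool.eq_iff_iff]
  simp [ZMod.natCast_eq_one_iff_odd, Nat.odd_iff]

end CfsgLib.Golay.Splitting
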