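import Cfsg.Agent.Lib.Golay.Splitting.CocodeData
import Cfsg.Agent.Lib.Golay.Splitting.Coords

/-!
# The certificate for the cocode module checks
-/

set_option autoImplicit false

namespace CfsgLib.Golay.Splitting.CocodeData

open CfsgLib.Golay.Splitting

theorem structB_cert : cert.structB = true := by decide +kernel

theorem edgesB_0 : cert.edgesB 0 = true := by decide +kernel

theorem edgesB_1 : cert.edgesB 1 = true := by decide +kernel

theorem edgesB_2 : cert.edgesB 2 = true := by decide +kernel

theorem edgesB_3 : cert.edgesB 3 = true := by decide +kernel

theorem edgesB_4 : cert.edgesB 4 = true := by decide +kernel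

theorem edgesB_5 : cert.edgesB 5 = true := by decide +kernel

theorem nodesB_0 : cert.nodesB 0 = true := by decide +kernel

theorem nodesB_1 : cert.nodesB 1 = true := by decide +kernel

theorem nodesB_2 : cert.nodesB 2 = true := by decide +kernel

theorem eqnB_cert : cert.eqns.all cert.eqnB = true := by decide +kernel

theorem restB_cert : cert.restB = true := by decide +kernel

theorem checkB_cert : cert.checkB = true := by
  simp only [Cert.checkB, List.range_succ, List.range_zero, List.nil_append, List.cons_append, List.all_cons,
    List.all_nil, edgesB_0, edgesB_1, edgesB_2, edgesB_3, edgesB_4, edgesB_5, nodesB_0, nodesB_1, nodesB_2,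
    eqnB_cert, restB_cert, Bool.and_true]

theorem matB_cert : cocodeMatB cert = true := by decide +kernel

end CfsgLib.Golay.Splitting.CocodeData
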