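import Cfsg.Agent.Lib.Golay.Splitting.Coords

/-!
# Extensions of M23 by the cocode module in coordinates
-/

set_option autoImplicit false

namespace CfsgLib.Golay.Splitting

open Cfsg CfsgLib.Golay

theorem exists_ctx_cocode {F : Type*} [Group F] (M : Subgroup F) [hM : M.Normal]
    (χ : F ⧸ M ≃* ↥Cfsg.Spor.M23) (η : (Cfsg.GolayPt → ZMod 2) →+ Additive ↥M)
    (hs : Function.Surjective η)
    (hk : ∀ w : Cfsg.GolayPt → ZMod 2, η w = 0 ↔ (w ∈ Cfsg.golayCode ∨ w + Pi.single none 1 ∈ Cfsg.golayCode))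
    (hη : ∀ (g : F) (w : Cfsg.GolayPt → ZMod 2),
        ((η (w ∘ ⇑(((χ (QuotientGroup.mk g) : ↥Cfsg.Spor.M23) : Equiv.Perm Cfsg.GolayPt)⁻¹))).toMul : F)
          = g * ((η w).toMul : F) * g⁻¹) :
    ∃ K : Ctx actCocode F, K.pr.ker = M := by
  have heq : ∀ u w, dualCoords u = dualCoords w → η u = η w := fun u w h => sub_eq_zero.mp (by
    rw [← map_sub, hk, ← dual_eq_zero_iff, map_sub, h, sub_self])
  have hker : (χ.toMonoidHom.comp (QuotientGroup.mk' M)).ker = M := by
    ext e
    show χ (QuotientGroup.mk e) = 1 ↔ e ∈ M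
    rw [map_eq_one_iff χ χ.injective, QuotientGroup.eq_one_iff]
  refine ⟨{ pr := χ.toMonoidHom.comp (QuotientGroup.mk' M)
            surj := χ.surjective.comp (QuotientGroup.mk'_surjective M)
            emb := fun v => ((η (dualWord v)).toMul : F)
            emb_add := fun v w => by rw [map_add, map_add]; rfl
            emb_inj := fun v w h => ?_
            ker_iff := fun e => ?_
            conj := fun e v => ?_ }, hker⟩
  · have h1 : η (dualWord v - dualWord w) = 0 := by
      rw [map_sub, sub_eq_zero]; exact Additive.toMul.injective (Subtype.ext h)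
    rw [hk, ← dual_eq_zero_iff, map_sub, dualCoords_dualWord, dualCoords_dualWord, sub_eq_zero] at h1
    exact h1
  · rw [← MonoidHom.mem_ker, hker]
    refine ⟨fun he => ?_, fun ⟨v, hv⟩ => hv ▸ (η (dualWord v)).toMul.2⟩
    obtain ⟨w, hw⟩ := hs (Additive.ofMul ⟨e, he⟩)
    refine ⟨dualCoords w, ?_⟩
    rw [heq _ w (dualCoords_dualWord _), hw]
    rfl
  · rw [← hη e (dualWord v)]
    exact congrArg (fun a : Additive ↥M => (a.toMul : F)) (heq _ _ (dualCoords_dualWord _).symm)

end CfsgLib.Golay.Splitting
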