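import Cfsg.Agent.Lib.Golay.Splitting.Theory
import Cfsg.Agent.Lib.H82.GaschutzLocal
import Cfsg.Agent.Lib.FusionMathieu.Groups

/-!
# Complements from closed lifts of a Sylow 2-subgroup of M23
-/

set_option autoImplicit false

namespace CfsgLib.Golay.Splitting

open Cfsg CfsgLib.Golay

variable {E : Type*} [Group E] [Finite E]

theorem exists_complement_of_closed {C : Cert} (hs : C.structB = true) (hc : C.checkB = true) (pr : E →* ↥Spor.M23)
    (hsurj : Function.Surjective pr) (hcomm : ∀ a ∈ pr.ker, ∀ b ∈ pr.ker, a * b = b * a)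
    (htwo : ∀ p : ℕ, p.Prime → p ∣ Nat.card pr.ker → p = 2) {x : ℕ → E} (hx : IsLift C pr x)
    (hclosed : ∀ k < 128, ∀ g < 3, ev x (C.node k) * x g = ev x (C.node (targetDst C k g))) :
    ∃ H : Subgroup E, H ⊓ pr.ker = ⊥ ∧ H ⊔ pr.ker = ⊤ := by
  obtain ⟨-, -, hnode, -, -⟩ := struct_facts hs
  simp only [Cert.structB, Bool.and_eq_true] at hs
  have hsy := hs.2
  simp only [Cert.sylowB, Bool.and_eq_true, List.all_eq_true, Nat.blt_eq, beq_iff_eq, decide_eq_true_eq] at hsy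
  obtain ⟨⟨⟨⟨⟨⟨h0, hnd⟩, hedges⟩, hthree⟩, hnonempty⟩, h8⟩, -⟩ := hsy
  simp only [Cert.checkB, Bool.and_eq_true, List.all_eq_true] at hc
  have hn0 := hc.1.1.2 0 (List.mem_range.mpr (by norm_num))
  simp only [Cert.nodesB, List.all_eq_true, Bool.or_eq_true, Bool.and_eq_true, Nat.ble_eq, beq_iff_eq,
    Nat.zero_add, Nat.mul_zero] at hn0
  have hnp : ∀ k < 128, C.wordPerm (C.node k) = C.nperm k := by
    intro k hk
    have h3 := hnonempty k (List.mem_range.mpr hk)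
    simp only [Bool.not_eq_true', beq_eq_false_iff_ne] at h3
    rcases hn0 k (List.mem_range.mpr hk) with (h4 | h4) | ⟨-, h4⟩
    · have := Nat.ble_eq ▸ h8
      omega
    · exact h4
    · exact absurd h4 h3
  let τ : Fin 128 → E := fun k => ev x (C.node k.val)
  have hτperm : ∀ k, listOf (pr (τ k)) = C.wordPerm (C.node k.val) := fun k => listOf_pr_ev hx _ (hnode _)
  have hinj : Function.Injective fun k => pr (τ k) := by
    intro a b h
    have h1 := congrArg listOf h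
    rw [hτperm, hτperm, hnp a.val a.isLt, hnp b.val b.isLt] at h1
    exact Fin.ext (List.inj_on_of_nodup_map hnd (List.mem_range.mpr a.isLt) (List.mem_range.mpr b.isLt) h1)
  let K : Subgroup E := Subgroup.closure (x '' {g | g < 3})
  have hone : τ 0 = 1 := by
    show ev x (C.node 0) = 1
    rw [h0]; rfl
  have hmemK : ∀ k, τ k ∈ K := by
    intro k
    refine list_prod_mem fun a ha => ?_
    obtain ⟨g, hg, rfl⟩ := List.mem_map.mp ha
    exact Subgroup.subset_closure ⟨g, hthree _ (List.mem_range.mpr k.isLt) g hg, rfl⟩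
  have hK : ∀ a ∈ K, a ∈ Set.range τ := by
    intro a ha
    suffices h : ∀ t ∈ Set.range τ, t * a ∈ Set.range τ by
      simpa [hone] using h _ ⟨0, rfl⟩
    have hgen : ∀ a ∈ x '' {g | g < 3}, ∀ t ∈ Set.range τ, t * a ∈ Set.range τ := by
      rintro _ ⟨g, hg, rfl⟩ _ ⟨k, rfl⟩
      refine ⟨⟨targetDst C k.val g, ?_⟩, (hclosed k.val k.isLt g hg).symm⟩
      exact (hedges k.val (List.mem_range.mpr k.isLt) g (List.mem_range.mpr hg)).1.2
    induction ha using Subgroup.closure_induction with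
    | mem y hy => exact hgen y hy
    | one => intro t ht; rwa [mul_one]
    | mul y z _ _ hy hz => intro t ht; rw [← mul_assoc]; exact hz _ (hy t ht)
    | inv y _ hy =>
      intro t ht
      have hpow : ∀ n : ℕ, ∀ t ∈ Set.range τ, t * y ^ n ∈ Set.range τ := by
        intro n
        induction n with
        | zero => intro t ht; rwa [pow_zero, mul_one]
        | succ n ih => intro t ht; rw [pow_succ, ← mul_assoc]; exact hy _ (ih t ht)
      have : y⁻¹ = y ^ (orderOf y - 1) := by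
        rw [inv_eq_iff_mul_eq_one, ← pow_succ', Nat.sub_add_cancel (orderOf_pos y), pow_orderOf_eq_one]
      rw [this]; exact hpow _ t ht
  have hKinf : K ⊓ pr.ker = ⊥ := by
    rw [eq_bot_iff]
    rintro a ⟨haK, hak⟩
    obtain ⟨k, rfl⟩ := hK a haK
    have : k = 0 := hinj (show pr (τ k) = pr (τ 0) by rw [hone, map_one]; exact hak)
    subst this
    exact hone
  have hcard : Nat.card (K.map pr) = 128 := by
    have e : Set.BijOn (fun k => pr (τ k)) Set.univ (K.map pr : Set ↥Spor.M23) := by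
      refine ⟨fun k _ => ⟨τ k, hmemK k, rfl⟩, fun a _ b _ h => hinj h, ?_⟩
      rintro _ ⟨a, ha, rfl⟩
      obtain ⟨k, rfl⟩ := hK a ha
      exact ⟨k, trivial, rfl⟩
    refine (Nat.card_congr e.equiv).symm.trans ?_
    rw [Nat.card_congr (Equiv.Set.univ _), Nat.card_eq_fintype_card, Fintype.card_fin]
  have hidx : (K ⊔ pr.ker).index = 79695 := by
    have h1 := Subgroup.index_map K pr
    rw [MonoidHom.range_eq_top.mpr hsurj, Subgroup.index_top, mul_one] at h1
    have h2 := (K.map pr).card_mul_index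
    rw [hcard, CfsgLib.FusionMathieu.card_M23] at h2
    omega
  obtain ⟨H, hH⟩ := CfsgLib.GaschutzLocal82.exists_complement pr.ker hcomm fun p hp hdvd =>
    ⟨K ⊔ pr.ker, K, hKinf, rfl, by rw [htwo p hp hdvd, hidx]; decide⟩
  exact ⟨H, disjoint_iff.mp hH.disjoint, hH.sup_eq_top⟩

theorem natCard_vec : Nat.card Vec = 2 ^ 11 := by
  rw [Nat.card_eq_fintype_card]; simp [Vec]

theorem Ctx.ker_comm {act : ↥Spor.M23 → Vec → Vec} (K : Ctx act E) :
    ∀ a ∈ K.pr.ker, ∀ b ∈ K.pr.ker, a * b = b * a := by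
  intro a ha b hb
  obtain ⟨v, rfl⟩ := (K.ker_iff a).mp ha
  obtain ⟨w, rfl⟩ := (K.ker_iff b).mp hb
  rw [← K.emb_add, ← K.emb_add, add_comm]

theorem Ctx.ker_prime {act : ↥Spor.M23 → Vec → Vec} (K : Ctx act E) :
    ∀ p : ℕ, p.Prime → p ∣ Nat.card K.pr.ker → p = 2 := by
  intro p hp hd
  have h : Nat.card K.pr.ker = 2 ^ 11 := by
    rw [← natCard_vec]
    refine (Nat.card_congr (Equiv.ofBijective (fun v => (⟨K.emb v, K.pr_emb v⟩ : ↥K.pr.ker)) ⟨?_, ?_⟩)).symm
    · intro v w h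
      exact K.emb_inj (congrArg Subtype.val h)
    · rintro ⟨a, ha⟩
      obtain ⟨v, hv⟩ := (K.ker_iff a).mp ha
      exact ⟨v, Subtype.ext hv⟩
  rw [h] at hd
  exact (Nat.prime_dvd_prime_iff_eq hp Nat.prime_two).mp (hp.dvd_of_dvd_pow hd)

theorem Ctx.exists_complement {act : ↥Spor.M23 → Vec → Vec} (K : Ctx act E) {C : Cert} (hs : C.structB = true)
    (hc : C.checkB = true) {x : ℕ → E} (hx : IsLift C K.pr x) {z : ZMod 2} (hz : z = 0)
    (h : ∀ k < 128, ∀ g < 3,
      ev x (C.node k) * x g = ev x (C.node (targetDst C k g)) * K.emb (z • targetVec C k g)) :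
    ∃ H : Subgroup E, H ⊓ K.pr.ker = ⊥ ∧ H ⊔ K.pr.ker = ⊤ := by
  refine exists_complement_of_closed hs hc K.pr K.surj K.ker_comm K.ker_prime hx fun k hk g hg => ?_
  rw [h k hk g hg, hz, zero_smul, K.emb_zero, mul_one]

/-- Two non-split extensions are isomorphic. -/
theorem Ctx.nonempty_mulEquiv {act : ↥Spor.M23 → Vec → Vec} {E' : Type*} [Group E'] [Finite E']
    (K : Ctx act E) (K' : Ctx act E') {C : Cert} (hs : C.structB = true) (hc : C.checkB = true)
    (hC : Compatible act C)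
    (hns : ∀ H : Subgroup E, H ⊓ K.pr.ker = ⊥ → H ⊔ K.pr.ker ≠ ⊤)
    (hns' : ∀ H : Subgroup E', H ⊓ K'.pr.ker = ⊥ → H ⊔ K'.pr.ker ≠ ⊤) :
    Nonempty (E ≃* E') := by
  obtain ⟨x, z, hx, -, h⟩ := exists_sylow_lifts hs hc K hC
  obtain ⟨x', z', hx', -, h'⟩ := exists_sylow_lifts hs hc K' hC
  have hone : ∀ a : ZMod 2, a ≠ 0 → a = 1 := by decide
  have hz : z = 1 := hone z fun hz => by
    obtain ⟨H, h1, h2⟩ := K.exists_complement hs hc hx hz h
    exact hns H h1 h2
  have hz' : z' = 1 := hone z' fun hz => by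
    obtain ⟨H, h1, h2⟩ := K'.exists_complement hs hc hx' hz h'
    exact hns' H h1 h2
  subst hz hz'
  let P : Subgroup (E × E') := MonoidHom.eqLocus (K.pr.comp (MonoidHom.fst E E')) (K'.pr.comp (MonoidHom.snd E E'))
  let A : Subgroup ↥P :=
    { carrier := {q | ∃ v, q.1 = (K.emb v, K'.emb v)}
      mul_mem' := by
        rintro a b ⟨v, hv⟩ ⟨w, hw⟩
        exact ⟨v + w, by rw [Subgroup.coe_mul, hv, hw, Prod.mk_mul_mk, K.emb_add, K'.emb_add]⟩
      one_mem' := ⟨0, by rw [K.emb_zero, K'.emb_zero]; rfl⟩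
      inv_mem' := by
        rintro a ⟨v, hv⟩
        refine ⟨v, ?_⟩
        rw [Subgroup.coe_inv, hv, inv_eq_iff_mul_eq_one, Prod.mk_mul_mk, ← K.emb_add, ← K'.emb_add,
          CharTwo.add_self_eq_zero, K.emb_zero, K'.emb_zero]
        rfl }
  have hA : A.Normal := ⟨by
    rintro ⟨q, hq⟩ ⟨v, hv⟩ ⟨g, hg⟩
    refine ⟨act (K.pr g.1) v, ?_⟩
    simp only at hv
    subst hv
    have hg' : K.pr g.1 = K'.pr g.2 := hg
    exact Prod.ext (K.conj _ _) ((K'.conj _ _).trans (by rw [hg']))⟩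
  let prP : ↥P →* ↥Spor.M23 := (K.pr.comp (MonoidHom.fst E E')).comp P.subtype
  have hkA : A ≤ prP.ker := by
    rintro q ⟨v, hv⟩
    show K.pr q.1.1 = 1
    rw [hv]; exact K.pr_emb v
  let pr : ↥P ⧸ A →* ↥Spor.M23 := QuotientGroup.lift A prP hkA
  have hprmk : ∀ q : ↥P, pr (QuotientGroup.mk q) = K.pr q.1.1 := fun q => rfl
  have hsurj : Function.Surjective pr := by
    intro π
    obtain ⟨e, he⟩ := K.surj π
    obtain ⟨e', he'⟩ := K'.surj π
    exact ⟨QuotientGroup.mk ⟨(e, e'), he.trans he'.symm⟩, he⟩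
  have hrep : ∀ a ∈ pr.ker, ∃ v, a = QuotientGroup.mk (⟨(K.emb v, 1), by
      show K.pr (K.emb v) = K'.pr 1
      rw [K.pr_emb, map_one]⟩ : ↥P) := by
    intro a ha
    obtain ⟨⟨⟨e, e'⟩, hee⟩, rfl⟩ := QuotientGroup.mk_surjective a
    have he : K.pr e = 1 := ha
    have he' : K'.pr e' = 1 := (show K.pr e = K'.pr e' from hee).symm.trans he
    obtain ⟨v, rfl⟩ := (K.ker_iff e).mp he
    obtain ⟨w, rfl⟩ := (K'.ker_iff e').mp he'
    refine ⟨v + w, QuotientGroup.eq.mpr ⟨w, ?_⟩⟩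
    simp only [Subgroup.coe_mul, Subgroup.coe_inv, Prod.inv_mk, Prod.mk_mul_mk, mul_one]
    refine Prod.ext ?_ ?_
    · show (K.emb v)⁻¹ * K.emb (v + w) = K.emb w
      rw [K.emb_add, inv_mul_cancel_left]
    · show (K'.emb w)⁻¹ = K'.emb w
      rw [inv_eq_iff_mul_eq_one, ← K'.emb_add, CharTwo.add_self_eq_zero, K'.emb_zero]
  have hcomm : ∀ a ∈ pr.ker, ∀ b ∈ pr.ker, a * b = b * a := by
    intro a ha b hb
    obtain ⟨v, rfl⟩ := hrep a ha
    obtain ⟨w, rfl⟩ := hrep b hb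
    rw [← QuotientGroup.mk_mul, ← QuotientGroup.mk_mul]
    congr 1
    exact Subtype.ext (Prod.ext (show K.emb v * K.emb w = K.emb w * K.emb v by
      rw [← K.emb_add, ← K.emb_add, add_comm]) rfl)
  have htwo : ∀ p : ℕ, p.Prime → p ∣ Nat.card pr.ker → p = 2 := by
    intro p hp hd
    haveI : Fact p.Prime := ⟨hp⟩
    obtain ⟨⟨a, ha⟩, hord⟩ := exists_prime_orderOf_dvd_card' p hd
    obtain ⟨v, rfl⟩ := hrep a ha
    have h2 : orderOf (⟨_, ha⟩ : ↥pr.ker) ∣ 2 := by
      refine orderOf_dvd_of_pow_eq_one (Subtype.ext ?_)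
      rw [Subgroup.coe_pow, ← QuotientGroup.mk_pow]
      refine (QuotientGroup.eq_one_iff _).mpr ⟨0, Prod.ext ?_ ?_⟩
      · show K.emb v ^ 2 = K.emb 0
        rw [pow_two, ← K.emb_add, CharTwo.add_self_eq_zero]
      · show (1 : E') ^ 2 = K'.emb 0
        rw [one_pow, K'.emb_zero]
    rw [hord] at h2
    exact (Nat.prime_dvd_prime_iff_eq hp Nat.prime_two).mp h2
  let y : ℕ → ↥P ⧸ A := fun g =>
    if hg : K.pr (x g) = K'.pr (x' g) then QuotientGroup.mk ⟨(x g, x' g), hg⟩ else 1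
  have hxx : ∀ g < 7, K.pr (x g) = K'.pr (x' g) :=
    fun g hg => listOf_injective ((hx g hg).trans (hx' g hg).symm)
  have hy : IsLift C pr y := by
    intro g hg
    simp only [y, dif_pos (hxx g hg)]
    exact hx g hg
  obtain ⟨-, -, hnode, -, -⟩ := struct_facts hs
  have hev : ∀ w : List ℕ, (∀ g ∈ w, g < 7) → ∃ hw, ev y w = QuotientGroup.mk (⟨(ev x w, ev x' w), hw⟩ : ↥P) := by
    intro w
    induction w using List.reverseRecOn with
    | nil => intro _; exact ⟨(map_one K.pr).trans (map_one K'.pr).symm, rfl⟩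
    | append_singleton w g ih =>
      intro hw
      obtain ⟨h1, h2⟩ := ih fun a ha => hw a (List.mem_append_left _ ha)
      have hg := hw g (by simp)
      simp only [ev_append_singleton, h2, y, dif_pos (hxx g hg)]
      exact ⟨P.mul_mem h1 (show ((x g, x' g) : E × E') ∈ P from hxx g hg), rfl⟩
  have hcl : ∀ k < 128, ∀ g < 3, ev y (C.node k) * y g = ev y (C.node (targetDst C k g)) := by
    intro k hk g hg
    obtain ⟨h1, e1⟩ := hev _ (hnode k)
    obtain ⟨h2, e2⟩ := hev _ (hnode (targetDst C k g))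
    simp only [e1, e2, y, dif_pos (hxx g (by omega))]
    rw [← QuotientGroup.mk_mul]
    symm
    refine QuotientGroup.eq.mpr ⟨(1 : ZMod 2) • targetVec C k g, Prod.ext ?_ ?_⟩
    · show (ev x (C.node (targetDst C k g)))⁻¹ * (ev x (C.node k) * x g) = _
      rw [h k hk g hg, inv_mul_cancel_left]
    · show (ev x' (C.node (targetDst C k g)))⁻¹ * (ev x' (C.node k) * x' g) = _
      rw [h' k hk g hg, inv_mul_cancel_left]
  obtain ⟨H, hHi, hHs⟩ := exists_complement_of_closed hs hc pr hsurj hcomm htwo hy hcl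
  -- the complement is the graph of an isomorphism
  have hex : ∀ e : E, ∃ q : ↥P, q.1.1 = e ∧ QuotientGroup.mk q ∈ H := by
    intro e
    obtain ⟨e', he'⟩ := K'.surj (K.pr e)
    have : (QuotientGroup.mk (⟨(e, e'), he'.symm⟩ : ↥P) : ↥P ⧸ A) ∈ H ⊔ pr.ker := hHs ▸ Subgroup.mem_top _
    obtain ⟨a, ha, b, hb, hab⟩ := Subgroup.mem_sup_of_normal_right.mp this
    obtain ⟨⟨⟨c, c'⟩, hcc⟩, rfl⟩ := QuotientGroup.mk_surjective a
    have hpc : K.pr c = K.pr e := by
      have := congrArg pr hab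
      rw [map_mul, (show pr b = 1 from hb), mul_one] at this
      exact this
    obtain ⟨v, hv⟩ := (K.ker_iff (c⁻¹ * e)).mp (by rw [map_mul, map_inv, hpc, inv_mul_cancel])
    have hpv : K.pr (K.emb v) = K'.pr (K'.emb v) := by rw [K.pr_emb, K'.pr_emb]
    refine ⟨⟨(c, c'), hcc⟩ * ⟨(K.emb v, K'.emb v), hpv⟩, ?_, ?_⟩
    · show c * K.emb v = e
      rw [hv, mul_inv_cancel_left]
    · rw [QuotientGroup.mk_mul, (QuotientGroup.eq_one_iff (N := A) (⟨(K.emb v, K'.emb v), hpv⟩ : ↥P)).mpr ⟨v, rfl⟩,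
        mul_one]
      exact ha
  have huniq : ∀ q r : ↥P, q.1.1 = r.1.1 → QuotientGroup.mk q ∈ H → QuotientGroup.mk r ∈ H → q = r := by
    intro q r hqr hq hr
    have hd : (QuotientGroup.mk (q⁻¹ * r) : ↥P ⧸ A) ∈ H ⊓ pr.ker := by
      refine ⟨by rw [QuotientGroup.mk_mul, QuotientGroup.mk_inv]; exact H.mul_mem (H.inv_mem hq) hr, ?_⟩
      show K.pr (q.1.1⁻¹ * r.1.1) = 1
      rw [hqr, inv_mul_cancel, map_one]
    rw [hHi, Subgroup.mem_bot, QuotientGroup.eq_one_iff] at hd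
    obtain ⟨v, hv⟩ := hd
    simp only [Subgroup.coe_mul, Subgroup.coe_inv] at hv
    have h1 : q.1.1⁻¹ * r.1.1 = K.emb v := congrArg Prod.fst hv
    rw [hqr, inv_mul_cancel, ← K.emb_zero] at h1
    rw [← K.emb_inj h1, K.emb_zero, K'.emb_zero] at hv
    exact Subtype.ext (inv_mul_eq_one.mp hv)
  choose f hf1 hf2 using hex
  have hhom : ∀ a b, f (a * b) = f a * f b := fun a b => huniq _ _
    (by rw [hf1, Subgroup.coe_mul, Prod.fst_mul, hf1, hf1]) (hf2 _)
    (by rw [QuotientGroup.mk_mul]; exact H.mul_mem (hf2 a) (hf2 b))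
  let φ : E →* E' := MonoidHom.mk' (fun e => (f e).1.2) fun a b => by rw [hhom]; rfl
  refine ⟨MulEquiv.ofBijective φ ⟨?_, ?_⟩⟩
  · rw [injective_iff_map_eq_one]
    intro e he
    have hp : K.pr e = 1 := by
      have := (f e).2
      change K.pr (f e).1.1 = K'.pr (φ e) at this
      rwa [hf1, he, map_one] at this
    obtain ⟨v, rfl⟩ := (K.ker_iff e).mp hp
    have hmem : (QuotientGroup.mk (f (K.emb v)) : ↥P ⧸ A) ∈ H ⊓ pr.ker := by
      refine ⟨hf2 _, ?_⟩
      show K.pr (f (K.emb v)).1.1 = 1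
      rw [hf1]; exact hp
    rw [hHi, Subgroup.mem_bot, QuotientGroup.eq_one_iff] at hmem
    obtain ⟨w, hw⟩ := hmem
    have h1 : (f (K.emb v)).1.1 = K.emb w := congrArg Prod.fst hw
    have h2 : φ (K.emb v) = K'.emb w := congrArg Prod.snd hw
    rw [he, ← K'.emb_zero] at h2
    rw [hf1, ← K'.emb_inj h2, K.emb_zero] at h1
    exact h1
  · intro e'
    obtain ⟨e, he⟩ := K.surj (K'.pr e')
    have hp : K'.pr ((φ e)⁻¹ * e') = 1 := by
      have := (f e).2
      change K.pr (f e).1.1 = K'.pr (φ e) at this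
      rw [map_mul, map_inv, ← this, hf1, he, inv_mul_cancel]
    obtain ⟨v, hv⟩ := (K'.ker_iff _).mp hp
    refine ⟨e * K.emb v, ?_⟩
    have : f (K.emb v) = ⟨(K.emb v, K'.emb v), (K.pr_emb v).trans (K'.pr_emb v).symm⟩ :=
      huniq _ _ (hf1 _) (hf2 _) (by
        rw [(QuotientGroup.eq_one_iff (N := A) (⟨(K.emb v, K'.emb v),
          (K.pr_emb v).trans (K'.pr_emb v).symm⟩ : ↥P)).mpr ⟨v, rfl⟩]
        exact H.one_mem)
    rw [map_mul, show φ (K.emb v) = K'.emb v from congrArg (fun q : ↥P => q.1.2) this, hv, mul_inv_cancel_left]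

end CfsgLib.Golay.Splitting
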