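import Cfsg.Agent.Lib.Golay.Splitting.Basic

/-!
# Soundness of the linear certificates
-/

set_option autoImplicit false

namespace CfsgLib.Golay.Splitting

open Cfsg CfsgLib.Golay

/-- An extension of M23 by `Vec` with action `act`, in coordinates. -/
structure Ctx (act : ↥Spor.M23 → Vec → Vec) (E : Type*) [Group E] where
  pr : E →* ↥Spor.M23
  surj : Function.Surjective pr
  emb : Vec → E
  emb_add : ∀ v w, emb (v + w) = emb v * emb w
  emb_inj : Function.Injective emb
  ker_iff : ∀ e, pr e = 1 ↔ ∃ v, emb v = e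
  conj : ∀ e v, e * emb v * e⁻¹ = emb (act (pr e) v)

/-- The matrices of a certificate invert the action of its generators. -/
def Compatible (act : ↥Spor.M23 → Vec → Vec) (C : Cert) : Prop :=
  ∀ g < 7, ∀ π : ↥Spor.M23, toList (π : Equiv.Perm GolayPt) = C.permL.getD g [] →
    ∀ v, act π (lin (C.mat g) v) = v

/-- Image list of an element of M23. -/
def listOf (π : ↥Spor.M23) : List ℕ := toList (π : Equiv.Perm GolayPt)

theorem listOf_injective : Function.Injective listOf := fun _ _ h => Subtype.ext (toList_injective h)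

theorem listOf_mul (a b : ↥Spor.M23) : listOf (a * b) = comp (listOf a) (listOf b) := toList_mul _ _

theorem listOf_one : listOf 1 = List.range 24 := toList_one

variable {E : Type*} [Group E]

/-- Value of a word in a family of elements. -/
def ev (x : ℕ → E) (w : List ℕ) : E := (w.map x).prod

theorem ev_append_singleton (x : ℕ → E) (w : List ℕ) (g : ℕ) : ev x (w ++ [g]) = ev x w * x g := by
  simp [ev]

/-- `x` lifts the first seven generators. -/
def IsLift (C : Cert) (pr : E →* ↥Spor.M23) (x : ℕ → E) : Prop :=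
  ∀ g < 7, listOf (pr (x g)) = C.permL.getD g []

theorem listOf_pr_ev {C : Cert} {pr : E →* ↥Spor.M23} {x : ℕ → E} (hx : IsLift C pr x) :
    ∀ w : List ℕ, (∀ g ∈ w, g < 7) → listOf (pr (ev x w)) = C.wordPerm w := by
  intro w
  induction w using List.reverseRecOn with
  | nil => intro _; simp [ev, Cert.wordPerm, listOf_one]
  | append_singleton w g ih =>
    intro hw
    rw [ev_append_singleton, map_mul, listOf_mul, hx g (hw g (by simp)),
      ih fun a ha => hw a (List.mem_append_left _ ha)]
    simp [Cert.wordPerm]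

variable {act : ↥Spor.M23 → Vec → Vec}

theorem Ctx.emb_zero (K : Ctx act E) : K.emb 0 = 1 := by
  have := K.emb_add 0 0
  rw [add_zero] at this
  exact mul_eq_left.mp this.symm

theorem Ctx.pr_emb (K : Ctx act E) (v : Vec) : K.pr (K.emb v) = 1 := (K.ker_iff _).mpr ⟨v, rfl⟩

theorem Ctx.emb_mul_lift {C : Cert} (K : Ctx act E) (hC : Compatible act C) {x : ℕ → E}
    (hx : IsLift C K.pr x) {g : ℕ} (hg : g < 7) (v : Vec) :
    K.emb v * x g = x g * K.emb (lin (C.mat g) v) := by
  have h := K.conj (x g) (lin (C.mat g) v)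
  rw [hC g hg (K.pr (x g)) (hx g hg) v] at h
  rw [← h]; group

theorem Ctx.lin_injective {C : Cert} (K : Ctx act E) (hC : Compatible act C) {x : ℕ → E}
    (hx : IsLift C K.pr x) {g : ℕ} (hg : g < 7) : Function.Injective (lin (C.mat g)) := by
  intro v w h
  have h1 := K.emb_mul_lift hC hx hg v
  rw [h, ← K.emb_mul_lift hC hx hg w] at h1
  exact K.emb_inj (mul_right_cancel h1)

/-! ### Walks -/

/-- Vector of a path, for given edge vectors. -/
def walkV (C : Cert) (lam : ℕ → Vec) (p : List ℕ) (v : Vec) : Vec :=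
  p.foldl (fun v j => lin (C.mat (C.edge j).gen) v + lam j) v

theorem valV_walkF (C : Cert) (u : ℕ → ZMod 2) : ∀ (p : List ℕ) (f : List ℕ),
    valV u (C.walkF p f) = walkV C (fun j => valV u (C.edge j).forms) p (valV u f) := by
  intro p
  induction p with
  | nil => intro f; rfl
  | cons j p ih =>
    intro f
    show valV u (C.walkF p _) = _
    rw [ih, valV_xorF, valV_trF]
    simp only [walkV, List.foldl_cons]

theorem walkV_congr (C : Cert) {a b : ℕ → Vec} : ∀ (p : List ℕ), (∀ i ∈ p, a i = b i) →
    ∀ v, walkV C a p v = walkV C b p v := by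
  intro p
  induction p with
  | nil => intro _ v; rfl
  | cons j p ih =>
    intro h v
    show walkV C a p (lin (C.mat (C.edge j).gen) v + a j) = walkV C b p (lin (C.mat (C.edge j).gen) v + b j)
    rw [ih (fun i hi => h i (List.mem_cons_of_mem _ hi)), h j List.mem_cons_self]

theorem walkV_injective (C : Cert) {lam : ℕ → Vec} : ∀ (p : List ℕ),
    (∀ i ∈ p, Function.Injective (lin (C.mat (C.edge i).gen))) → Function.Injective (walkV C lam p) := by
  intro p
  induction p with
  | nil => intro _ v w h; exact h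
  | cons j p ih =>
    intro h v w hvw
    exact h j List.mem_cons_self (add_right_cancel (ih (fun i hi => h i (List.mem_cons_of_mem _ hi)) hvw))

/-- The relator component number `i`. -/
def splitVar (uv : ℕ → Vec) (i : ℕ) : ZMod 2 := uv (i / 11) ⟨i % 11, Nat.mod_lt _ (by norm_num)⟩

theorem valV_unit_splitVar (uv : ℕ → Vec) {r : ℕ} (hr : r < 21) : valV (splitVar uv) (unitF r) = uv r := by
  rw [valV_unitF _ hr]
  funext c
  have h1 : (11 * r + c.val) / 11 = r := by omega
  simp only [splitVar, h1]
  congr 1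
  exact Fin.ext (show (11 * r + c.val) % 11 = c.val by omega)

/-- Vector of the change of a word under a change of lifts. -/
def walkW (C : Cert) (m : ℕ → Vec) (w : List ℕ) (v : Vec) : Vec :=
  w.foldl (fun v g => lin (C.mat g) v + m g) v

theorem valV_walkM (C : Cert) (m : ℕ → ZMod 2) : ∀ (w : List ℕ), (∀ g ∈ w, g < 21) → ∀ f : List ℕ,
    valV m (C.walkM w f) = walkW C (fun g c => m (11 * g + c.val)) w (valV m f) := by
  intro w
  induction w with
  | nil => intro _ f; rfl
  | cons g w ih =>
    intro hw f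
    show valV m (C.walkM w _) = _
    rw [ih (fun a ha => hw a (List.mem_cons_of_mem _ ha)), valV_xorF, valV_trF,
      valV_unitF m (hw g List.mem_cons_self)]
    simp only [walkW, List.foldl_cons]

theorem val_spanWord (u : ℕ → ZMod 2) : ∀ (K : List ℕ) (f : ℕ),
    val u (spanWord K f) = ∑ i ∈ Finset.range K.length, if f.testBit i then val u (K.getD i 0) else 0 := by
  intro K
  induction K with
  | nil => intro f; simp [spanWord, val_zero]
  | cons a K ih =>
    intro f
    rw [spanWord_cons, val_xor, ih, List.length_cons, Finset.sum_range_succ', add_comm]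
    refine congrArg₂ (· + ·) ?_ ?_
    · refine Finset.sum_congr rfl fun i _ => ?_
      rw [Nat.testBit_shiftRight, add_comm 1 i, List.getD_cons_succ]
    · cases f.testBit 0 <;> simp [val_zero]

theorem val_spanWord' (u : ℕ → ZMod 2) {K : List ℕ} (hK : K.length ≤ numVar) (f : ℕ) :
    val u (spanWord K f) = val (fun i => val u (K.getD i 0)) f := by
  rw [val_spanWord, val]
  refine Finset.sum_subset (fun i hi => Finset.mem_range.mpr
    ((Finset.mem_range.mp hi).trans_le hK)) fun i _ hi => ?_
  rw [List.getD_eq_default _ _ (by simpa using hi)]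
  simp [val_zero]

theorem getD_lt {a : List ℕ} (ha : a.length = 24) (h : ∀ i ∈ a, i < 24) (i : ℕ) : a.getD i 0 < 24 := by
  by_cases hi : i < a.length
  · rw [List.getD_eq_getElem _ _ hi]; exact h _ (List.getElem_mem _)
  · rw [List.getD_eq_default _ _ (not_lt.mp hi)]; norm_num

theorem getD_comp {a b : List ℕ} {i : ℕ} (hi : i < b.length) :
    (comp a b).getD i 0 = a.getD (b.getD i 0) 0 := by
  simp [comp, List.getD_eq_getElem?_getD, List.getElem?_map, hi]

theorem exists_perm {l l' : List ℕ} (hl : l.length = 24) (hl' : l'.length = 24) (hb : ∀ i ∈ l, i < 24)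
    (hb' : ∀ i ∈ l', i < 24) (h1 : comp l l' = List.range 24) (h2 : comp l' l = List.range 24) :
    ∃ σ : Equiv.Perm GolayPt, toList σ = l := by
  have key : ∀ {a b : List ℕ}, b.length = 24 → comp a b = List.range 24 →
      ∀ i < 24, a.getD (b.getD i 0) 0 = i := by
    intro a b hb h i hi
    rw [← getD_comp (hb ▸ hi), h, List.getD_eq_getElem _ _ (by simpa using hi)]
    simp
  let e : Fin 24 ≃ Fin 24 :=
    ⟨fun i => ⟨l.getD i.val 0, getD_lt hl hb _⟩, fun i => ⟨l'.getD i.val 0, getD_lt hl' hb' _⟩,
      fun i => Fin.ext (key hl h2 i.val i.isLt), fun i => Fin.ext (key hl' h1 i.val i.isLt)⟩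
  refine ⟨ptEquiv.permCongr e, ?_⟩
  apply List.ext_getElem
  · rw [toList_length, hl]
  · intro i h3 h4
    rw [toList_getElem, ← List.getD_eq_getElem _ 0 h4]
    simp [ptEquiv, Equiv.permCongr, idx_pt, e]

/-- Vector of a target edge. -/
def targetVec (C : Cert) (k g : ℕ) : Vec :=
  fun c => bif (C.targets.getD (3 * k + g) ⟨0, 0, []⟩).eps.testBit c.val then 1 else 0

/-- End node of a target edge. -/
def targetDst (C : Cert) (k g : ℕ) : ℕ := (C.edge (C.targets.getD (3 * k + g) ⟨0, 0, []⟩).edge).dst

section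

variable {C : Cert}

theorem struct_facts (hs : C.structB = true) :
    (∀ w ∈ C.rels, ∀ g ∈ w, g < 7) ∧ (∀ w ∈ C.rels, C.wordPerm w = List.range 24) ∧
      (∀ k, ∀ g ∈ C.node k, g < 7) ∧ C.permL.length = 7 ∧ C.rels.length = 21 := by
  simp only [Cert.structB, Bool.and_eq_true, beq_iff_eq, List.all_eq_true, Nat.blt_eq] at hs
  obtain ⟨⟨⟨⟨⟨⟨⟨⟨h1, -⟩, h3⟩, h4⟩, h5⟩, h6⟩, -⟩, -⟩, -⟩ := hs
  refine ⟨fun w hw g hg => h1 ▸ h4 w hw g hg, h5, fun k g hg => ?_, h1, h3⟩
  unfold Cert.node at hg
  by_cases hk : k / 16 < C.nodes.length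
  · rw [List.getD_eq_getElem _ _ hk] at hg
    by_cases hk' : k % 16 < (C.nodes[k / 16]).length
    · rw [List.getD_eq_getElem _ _ hk'] at hg
      exact h1 ▸ h6 _ (List.getElem_mem hk) _ (List.getElem_mem hk') g hg
    · rw [List.getD_eq_default _ _ (not_lt.mp hk')] at hg
      simp at hg
  · rw [List.getD_eq_default (l := C.nodes) _ (not_lt.mp hk)] at hg
    simp at hg

theorem exists_relVec (hs : C.structB = true) (K : Ctx act E) {x : ℕ → E} (hx : IsLift C K.pr x)
    (r : ℕ) : ∃ v, K.emb v = ev x (C.rels.getD r []) := by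
  obtain ⟨h4, h5, -, -, -⟩ := struct_facts hs
  apply (K.ker_iff _).mp
  apply listOf_injective
  by_cases hr : r < C.rels.length
  · rw [List.getD_eq_getElem _ _ hr, listOf_pr_ev hx _ (h4 _ (List.getElem_mem hr)),
      h5 _ (List.getElem_mem hr), listOf_one]
  · rw [List.getD_eq_default _ _ (not_lt.mp hr)]
    simp [ev]

theorem exists_gauged (hs : C.structB = true) (hc : C.checkB = true) (K : Ctx act E) (hC : Compatible act C) :
    ∃ (x : ℕ → E) (uv : ℕ → Vec), IsLift C K.pr x ∧
      (∀ r, K.emb (uv r) = ev x (C.rels.getD r [])) ∧ ∀ p ∈ C.pivots, splitVar uv p = 0 := by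
  obtain ⟨h4, -, -, hlen, hrl⟩ := struct_facts hs
  have hperm : ∀ g < 7, ∃ π : ↥Spor.M23, listOf π = C.permL.getD g [] := by
    intro g hg
    simp only [Cert.structB, Bool.and_eq_true, beq_iff_eq, List.all_eq_true, Nat.blt_eq] at hs
    obtain ⟨⟨⟨-, hg7⟩, -⟩, -⟩ := hs
    obtain ⟨⟨⟨⟨⟨⟨⟨hl, hl'⟩, hb⟩, hb'⟩, hc1⟩, hc2⟩, hpres⟩, hfix⟩ := hg7 g (List.mem_range.mpr hg)
    generalize C.permL.getD g [] = l at *
    generalize C.permI.getD g [] = l' at *
    obtain ⟨σ, hσ⟩ := exists_perm hl hl' hb hb' hc1 hc2
    have hmem : σ ∈ Spor.M23 := by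
      refine ⟨mem_M24_iff_isPres.mpr (hσ.symm ▸ hpres), ?_⟩
      show σ none = none
      apply idx_injective
      apply Fin.ext
      rw [← toList_getD, hσ]
      exact hfix
    exact ⟨⟨σ, hmem⟩, hσ⟩
  choose! π hπ using hperm
  choose e he using fun g => K.surj (π g)
  have hx0 : IsLift C K.pr e := fun g hg => by rw [he]; exact hπ g hg
  choose uv0 huv0 using exists_relVec hs K hx0
  simp only [Cert.checkB, Cert.restB, Bool.and_eq_true, List.all_eq_true, Nat.ble_eq] at hc
  obtain ⟨-, ⟨⟨-, hp⟩, -⟩, hK⟩ := hc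
  let m : ℕ → ZMod 2 := fun i => val (splitVar uv0) (C.gauge.getD i 0)
  let mv : ℕ → Vec := fun g c => m (11 * g + c.val)
  refine ⟨fun g => e g * K.emb (mv g), fun r => uv0 r + walkW C mv (C.rels.getD r []) 0, ?_, ?_, ?_⟩
  · intro g hg
    rw [map_mul, K.pr_emb, mul_one]
    exact hx0 g hg
  · intro r
    have hw : ∀ g ∈ C.rels.getD r [], g < 7 := by
      by_cases hr : r < C.rels.length
      · rw [List.getD_eq_getElem _ _ hr]; exact h4 _ (List.getElem_mem hr)
      · rw [List.getD_eq_default _ _ (not_lt.mp hr)]; simp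
    rw [K.emb_add, huv0]
    clear huv0
    generalize C.rels.getD r [] = w at hw ⊢
    induction w using List.reverseRecOn with
    | nil => simp [ev, walkW, K.emb_zero]
    | append_singleton w g ih =>
      have hg := hw g (by simp)
      rw [ev_append_singleton, ev_append_singleton, ← ih fun a ha => hw a (List.mem_append_left _ ha)]
      have h1 : walkW C mv (w ++ [g]) 0 = lin (C.mat g) (walkW C mv w 0) + mv g := by simp [walkW]
      rw [h1, K.emb_add]
      simp only [mul_assoc]
      congr 1
      rw [← mul_assoc, ← mul_assoc, K.emb_mul_lift hC hx0 hg]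
  · intro p hpm
    have hp' := hp p hpm
    simp only [Cert.pivotB, Bool.and_eq_true, Nat.blt_eq, beq_iff_eq] at hp'
    obtain ⟨hlt, heq⟩ := hp'
    have hw : ∀ g ∈ C.rels.getD (p / 11) [], g < 21 := by
      intro g hg
      by_cases hr : p / 11 < C.rels.length
      · rw [List.getD_eq_getElem _ _ hr] at hg
        exact lt_trans (h4 _ (List.getElem_mem hr) g hg) (by norm_num)
      · rw [List.getD_eq_default _ _ (not_lt.mp hr)] at hg; simp at hg
    have h1 : val (splitVar uv0) (2 ^ p) =
        walkW C mv (C.rels.getD (p / 11) []) 0 ⟨p % 11, Nat.mod_lt _ (by norm_num)⟩ := by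
      rw [heq, val_spanWord' _ hK]
      have h2 := congrFun (valV_walkM C m _ hw []) ⟨p % 11, Nat.mod_lt _ (by norm_num)⟩
      rw [valV_nil] at h2
      exact h2
    rw [val_two_pow _ hlt] at h1
    show uv0 (p / 11) _ + walkW C mv _ 0 _ = 0
    rw [← h1]
    exact CharTwo.add_self_eq_zero _

theorem exists_sylow_lifts (hs : C.structB = true) (hc : C.checkB = true) (K : Ctx act E)
    (hC : Compatible act C) :
    ∃ (x : ℕ → E) (z : ZMod 2), IsLift C K.pr x ∧ (C.base = 0 → z = 0) ∧
      ∀ k < 128, ∀ g < 3,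
        ev x (C.node k) * x g = ev x (C.node (targetDst C k g)) * K.emb (z • targetVec C k g) := by
  obtain ⟨x, uv, hx, huv, hpiv⟩ := exists_gauged hs hc K hC
  obtain ⟨-, -, hnode, hlen, hrl⟩ := struct_facts hs
  simp only [Cert.checkB, Cert.restB, Bool.and_eq_true, List.all_eq_true, Nat.ble_eq] at hc
  obtain ⟨⟨⟨he, hn⟩, hq⟩, ⟨⟨⟨hne, hnn⟩, -⟩, ht⟩, -⟩ := hc
  have hedge : ∀ j < C.numEdges, C.edgeB j (C.edge j) = true := by
    intro j hj
    have h := he (j / 128) (List.mem_range.mpr (by omega))
    simp only [Cert.edgesB, List.all_eq_true, Bool.or_eq_true, Nat.ble_eq] at h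
    have h2 := h (j % 128) (List.mem_range.mpr (by omega))
    rw [Nat.div_add_mod] at h2
    exact h2.resolve_left (by omega)
  have hnperm : ∀ k < 16 * C.nodes.length, C.nperm k ≠ [] → C.wordPerm (C.node k) = C.nperm k := by
    intro k hk hne'
    have h := hn (k / 128) (List.mem_range.mpr (by omega))
    simp only [Cert.nodesB, List.all_eq_true, Bool.or_eq_true, Bool.and_eq_true, Nat.ble_eq, beq_iff_eq] at h
    have h2 := h (k % 128) (List.mem_range.mpr (by omega))
    rw [Nat.div_add_mod] at h2
    rcases h2 with (h3 | h3) | ⟨-, h3⟩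
    · omega
    · exact h3
    · exact absurd h3 hne' 
  have hlam : ∀ j, ∃ v, j < C.numEdges →
      ev x (C.node (C.edge j).src) * x (C.edge j).gen = ev x (C.node (C.edge j).dst) * K.emb v := by
    intro j
    by_cases hj : j < C.numEdges
    · have h := hedge j hj
      simp only [Cert.edgeB, Bool.and_eq_true, Nat.blt_eq, beq_iff_eq, Bool.not_eq_true', beq_eq_false_iff_ne] at h
      obtain ⟨⟨⟨⟨⟨⟨hg, hs1⟩, hd1⟩, hs2⟩, hd2⟩, hperm0⟩, -⟩ := h
      have hperm : C.wordPerm (C.node (C.edge j).src ++ [(C.edge j).gen]) = C.wordPerm (C.node (C.edge j).dst) := by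
        rw [show C.wordPerm (C.node (C.edge j).src ++ [(C.edge j).gen]) =
          comp (C.wordPerm (C.node (C.edge j).src)) (C.permL.getD (C.edge j).gen []) by simp [Cert.wordPerm],
          hnperm _ hs1 hs2, hnperm _ hd1 hd2]
        exact hperm0
      rw [hlen] at hg
      obtain ⟨v, hv⟩ := (K.ker_iff ((ev x (C.node (C.edge j).dst))⁻¹ *
          (ev x (C.node (C.edge j).src) * x (C.edge j).gen))).mp (by
        rw [map_mul, map_inv, inv_mul_eq_one]
        apply listOf_injective
        rw [listOf_pr_ev hx _ (hnode _), ← ev_append_singleton, listOf_pr_ev hx _ ?_]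
        · exact hperm.symm
        · intro a ha
          rcases List.mem_append.mp ha with ha | ha
          · exact hnode _ a ha
          · simp only [List.mem_singleton] at ha; omega)
      exact ⟨v, fun _ => by rw [hv, mul_inv_cancel_left]⟩
    · exact ⟨0, fun h => absurd h hj⟩
  choose lam hlam using hlam
  have hgen : ∀ j < C.numEdges, (C.edge j).gen < 7 := by
    intro j hj
    have h := hedge j hj
    simp only [Cert.edgeB, Bool.and_eq_true, Nat.blt_eq] at h
    exact hlen ▸ h.1.1.1.1.1.1
  have hchain : ∀ (p w : List ℕ) (s t : ℕ), C.chainB s p w t = true → (∀ j ∈ p, j < C.numEdges) →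
      ∀ v, ev x (C.node s) * K.emb v * ev x w = ev x (C.node t) * K.emb (walkV C lam p v) := by
    intro p
    induction p with
    | nil =>
      intro w s t h _ v
      cases w with
      | nil =>
        simp only [Cert.chainB, beq_iff_eq] at h
        simp [h, ev, walkV]
      | cons => simp [Cert.chainB] at h
    | cons j p ih =>
      intro w s t h hj v
      cases w with
      | nil => simp [Cert.chainB] at h
      | cons g w =>
        simp only [Cert.chainB, Bool.and_eq_true, beq_iff_eq] at h
        obtain ⟨⟨hsrc, hgg⟩, hrest⟩ := h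
        have hj' := hj j List.mem_cons_self
        have hevc : ev x (g :: w) = x g * ev x w := by simp [ev]
        rw [hevc, ← mul_assoc, mul_assoc (ev x (C.node s)),
          K.emb_mul_lift hC hx (hgg ▸ hgen j hj'), ← mul_assoc]
        subst hgg
        rw [← hsrc, hlam j hj', mul_assoc (ev x (C.node (C.edge j).dst)), ← K.emb_add,
          ih w _ t hrest (fun i hi => hj i (List.mem_cons_of_mem _ hi)), add_comm]
        rfl
  have hclosed : ∀ (p : List ℕ) (s r : ℕ), C.chainB s p (C.rels.getD r []) s = true →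
      (∀ j ∈ p, j < C.numEdges) → walkV C lam p 0 = uv r := by
    intro p s r h hj
    have h1 := hchain p _ s s h hj 0
    rw [K.emb_zero, mul_one, ← huv r] at h1
    exact (K.emb_inj (mul_left_cancel h1)).symm
  have hform : ∀ j, j < C.numEdges → lam j = valV (splitVar uv) (C.edge j).forms := by
    intro j
    induction j using Nat.strong_induction_on with
    | _ j ih =>
      intro hj
      have h := hedge j hj
      simp only [Cert.edgeB, Bool.and_eq_true, Nat.blt_eq, beq_iff_eq] at h
      obtain ⟨-, hder⟩ := h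
      cases hd : (C.edge j).der with
      | none =>
        simp only [hd, Bool.and_eq_true, beq_iff_eq] at hder
        obtain ⟨hf, hnodes⟩ := hder
        rw [hf, valV_nil]
        have h1 := hlam j hj
        rw [← ev_append_singleton, hnodes] at h1
        apply K.emb_inj
        rw [K.emb_zero]
        exact mul_eq_left.mp h1.symm
      | some t =>
        obtain ⟨r, pre, post⟩ := t
        simp only [hd, Bool.and_eq_true, beq_iff_eq, List.all_eq_true, Nat.blt_eq] at hder
        obtain ⟨⟨⟨⟨hr, hpre⟩, hpost⟩, hch⟩, hwalk⟩ := hder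
        have hall : ∀ i ∈ pre ++ j :: post, i < C.numEdges := by
          intro i hi
          rcases List.mem_append.mp hi with hi | hi
          · exact (hpre i hi).trans hj
          · rcases List.mem_cons.mp hi with rfl | hi
            · exact hj
            · exact (hpost i hi).trans hj
        have h1 := hclosed _ _ r hch hall
        have h2 := valV_walkF C (splitVar uv) (pre ++ j :: post) []
        rw [hwalk, valV_nil, valV_unit_splitVar _ (hrl ▸ hr), ← h1] at h2
        have hstep : ∀ a : ℕ → Vec, walkV C a (pre ++ j :: post) 0 =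
            walkV C a post (lin (C.mat (C.edge j).gen) (walkV C a pre 0) + a j) := by
          intro a; simp [walkV, List.foldl_append]
        rw [hstep, hstep] at h2
        have hb : ∀ i ∈ pre, lam i = valV (splitVar uv) (C.edge i).forms :=
          fun i hi => ih i (hpre i hi) ((hpre i hi).trans hj)
        have hb' : ∀ i ∈ post, lam i = valV (splitVar uv) (C.edge i).forms :=
          fun i hi => ih i (hpost i hi) ((hpost i hi).trans hj)
        rw [← walkV_congr C pre hb, ← walkV_congr C post hb'] at h2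
        exact add_left_cancel (walkV_injective C post
          (fun i hi => K.lin_injective hC hx (hgen i ((hpost i hi).trans hj))) h2)
  have heqn : ∀ f ∈ C.eqns.map Eqn.form, val (splitVar uv) f = 0 := by
    intro f hf
    obtain ⟨q, hqm, rfl⟩ := List.mem_map.mp hf
    have h := hq q hqm
    simp only [Cert.eqnB, Bool.and_eq_true, Nat.blt_eq, beq_iff_eq, List.all_eq_true] at h
    obtain ⟨⟨⟨⟨hr, hcomp⟩, hall⟩, hch⟩, hform'⟩ := h
    have h1 := hclosed _ _ _ hch hall
    have h2 := valV_walkF C (splitVar uv) q.path []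
    rw [valV_nil, ← walkV_congr C q.path (fun i hi => hform i (hall i hi)), h1] at h2
    rw [← hform', val_xor]
    have h3 := congrFun h2 ⟨q.comp, hcomp⟩
    have h4 := congrFun (valV_unit_splitVar uv (hrl ▸ hr)) ⟨q.comp, hcomp⟩
    simp only [valV, unitF] at h3 h4
    have h7 := getD_map_finRange (g := fun c : Fin 11 => 2 ^ (11 * q.rel + c.val)) ⟨q.comp, hcomp⟩
    simp only at h7
    rw [h7] at h4
    rw [h3, h4, CharTwo.add_self_eq_zero]
  have hfree : ∀ f, val (splitVar uv) f = val (splitVar uv) (f &&& C.free) := by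
    intro f
    simp only [Cert.structB, Bool.and_eq_true] at hs
    have hfb := hs.1.2
    simp only [Cert.freeB, List.all_eq_true, Bool.or_eq_true, List.contains_iff_mem] at hfb
    refine Finset.sum_congr rfl fun i hi => ?_
    rw [Nat.testBit_and]
    rcases hfb i (List.mem_range.mpr (Finset.mem_range.mp hi)) with h | h
    · rw [h, Bool.and_true]
    · rw [hpiv i h]; simp
  refine ⟨x, val (splitVar uv) C.base, hx, fun h => by rw [h, val_zero], fun k hk g hg => ?_⟩
  simp only [Cert.structB, Bool.and_eq_true] at hs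
  have hsy := hs.2
  simp only [Cert.sylowB, Bool.and_eq_true, List.all_eq_true, Nat.blt_eq, beq_iff_eq] at hsy
  obtain ⟨⟨⟨⟨⟨⟨-, -⟩, hedges⟩, -⟩, -⟩, -⟩, htl⟩ := hsy
  obtain ⟨⟨⟨hsrc, hgg⟩, -⟩, hlt⟩ := hedges k (List.mem_range.mpr hk) g (List.mem_range.mpr hg)
  have h1 := hlam _ hlt
  rw [hsrc, hgg] at h1
  rw [h1]
  show _ = ev x (C.node (C.edge _).dst) * _
  congr 1
  congr 1
  rw [hform _ hlt]
  funext c
  have htm : C.targets.getD (3 * k + g) ⟨0, 0, []⟩ ∈ C.targets := by
    rw [List.getD_eq_getElem _ _ (by omega)]; exact List.getElem_mem _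
  have h5 := ht _ htm
  simp only [Cert.targetB, List.all_eq_true, beq_iff_eq] at h5
  have h6 := congrArg (val (splitVar uv)) (h5 c (List.mem_finRange c))
  rw [← hfree, val_xor, spanWord_induction (P := fun n => val (splitVar uv) n = 0) _ (val_zero _)
    (fun a b ha hb => by rw [val_xor, ha, hb, add_zero]) heqn, add_zero] at h6
  show val (splitVar uv) ((C.edge _).forms.getD c.val 0) = _
  rw [h6]
  simp only [targetVec, Pi.smul_apply, smul_eq_mul]
  cases (C.targets.getD (3 * k + g) ⟨0, 0, []⟩).eps.testBit c.val <;> simp [val_zero]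

end

end CfsgLib.Golay.Splitting
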